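import Groth.Agent.PtInt.Basic
import Groth.Agent.GeomLoci.Constructible
import Groth.Agent.GeomLoci.NearPoint

/-!
# Fibres which are geometrically pointwise integral
-/

set_option autoImplicit false
set_option linter.style.haveILetI false
set_option linter.unusedSectionVars false
set_option backward.isDefEq.respectTransparency false
set_option backward.isDefEq.respectTransparency.types false

universe u

open AlgebraicGeometry CategoryTheory CategoryTheory.Limits Topology TopologicalSpace

namespace Groth.Agent.PtInt

variable {X Y : Scheme.{u}} (f : X ⟶ Y)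

theorem forall_fiber_iff [LocallyOfFiniteType f] [QuasiCompact f] (y : Y) :
    (∀ x : ↥(f.fiber y), FBase.IsGeomPtIntegralAt (f.fiberToSpecResidueField y) x) ↔
      GeometricallyReduced (f.fiberToSpecResidueField y) ∧
        MoreMor.nGeomConnComp f y = MoreMor.nGeomIrredComp f y := by
  let Ω := AlgebraicClosure (Y.residueField y)
  rw [forall_isGeomPtIntegralAt_iff_counts (k := (Y.residueField y : Type u)) (Ω := Ω) (f.fiberToSpecResidueField y)]
  let i : Spec (CommRingCat.of Ω) ⟶ Spec (Y.residueField y) :=
    Spec.map (CommRingCat.ofHom (algebraMap (Y.residueField y) Ω))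
  let s := i ≫ Y.fromSpecResidueField y
  have hs : s (IsLocalRing.closedPoint Ω) = y := by
    rw [Scheme.Hom.comp_apply]; exact Scheme.fromSpecResidueField_apply _ _
  obtain ⟨h1, h2⟩ := GeomLoci.nGeom_eq_counts f s (IsLocalRing.closedPoint Ω)
  rw [hs] at h1 h2
  let e : FBase.bc (k := (Y.residueField y : Type u)) (f.fiberToSpecResidueField y) Ω ≅ pullback f s :=
    pullbackLeftPullbackSndIso f (Y.fromSpecResidueField y) i
  have hirr : (irreducibleComponents ↥(FBase.bc (k := (Y.residueField y : Type u)) (f.fiberToSpecResidueField y) Ω)).encard =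
      MoreMor.nGeomIrredComp f y := by
    rw [h1]
    exact (Set.encard_congr (irreducibleComponentsEquivOfIsPreirreducibleFiber e.hom.homeomorph
      e.hom.homeomorph.continuous e.hom.homeomorph.isOpenMap
      (fun z => Set.Subsingleton.isPreirreducible ((Set.subsingleton_singleton).preimage e.hom.homeomorph.injective))
      e.hom.homeomorph.surjective).toEquiv).symm
  have hconn : ENat.card (_root_.ConnectedComponents ↥(FBase.bc (k := (Y.residueField y : Type u)) (f.fiberToSpecResidueField y) Ω)) =
      MoreMor.nGeomConnComp f y := by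
    rw [h2]
    exact Triage.GeomCount.card_connectedComponents_eq e.hom.homeomorph e.hom.homeomorph.continuous
      e.hom.homeomorph.surjective fun z => by
        rw [e.hom.homeomorph.isPreconnected_preimage]
        exact isPreconnected_connectedComponent
  rw [hirr, hconn]

theorem isConstructible_counts_eq [IsNoetherian Y] [LocallyOfFiniteType f] [QuasiCompact f] :
    IsConstructible {y : Y | MoreMor.nGeomConnComp f y = MoreMor.nGeomIrredComp f y} := by
  refine ConsPropLib.isConstructible_of_dichotomy _ fun T j _ _ _ => ?_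
  obtain ⟨V, hV, hyV, h⟩ := GeomLoci.exists_nGeom_eq_nhds f (j (genericPoint ↥T))
  have hopen : IsOpen (j ⁻¹' V) := hV.preimage j.continuous
  have hmem : ∀ t ∈ j ⁻¹' V, MoreMor.nGeomIrredComp f (j t) = MoreMor.nGeomIrredComp f (j (genericPoint ↥T)) ∧
      MoreMor.nGeomConnComp f (j t) = MoreMor.nGeomConnComp f (j (genericPoint ↥T)) := fun t ht =>
    h _ ⟨specializes_iff_mem_closure.1 ((genericPoint_specializes t).map j.continuous), ht⟩
  by_cases hn : MoreMor.nGeomConnComp f (j (genericPoint ↥T)) = MoreMor.nGeomIrredComp f (j (genericPoint ↥T))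
  · exact Or.inl ⟨_, mem_interior.2 ⟨j ⁻¹' V, fun t ht => (hmem t ht).2.trans (hn.trans (hmem t ht).1.symm),
      hopen, hyV⟩⟩
  · exact Or.inr ⟨_, mem_interior.2 ⟨j ⁻¹' V, fun t ht h' =>
      hn ((hmem t ht).2.symm.trans (h'.trans (hmem t ht).1)), hopen, hyV⟩⟩

theorem isLocallyConstructible_counts_eq [LocallyOfFinitePresentation f] [QuasiCompact f] [QuasiSeparated f] :
    IsLocallyConstructible {y : Y | MoreMor.nGeomConnComp f y = MoreMor.nGeomIrredComp f y} := by
  refine ConsPropLib.lc_of_affine fun V hV => ?_
  haveI : IsAffine (V : Scheme.{u}) := hV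
  obtain ⟨S₀, X₀, _, π, u₀, _, qX, _, _, _, _, _, _, _, sqX, -⟩ :=
    ConsPropLib.exists_model_pair (pullback.snd f V.ι) (pullback.snd f V.ι)
  haveI : QuasiCompact π := quasiCompact_of_compactSpace π
  convert MorLib.LimCons.isConstructible_preimage π (isConstructible_counts_eq u₀) using 1
  ext v
  have h2 := Triage.GeomCount.nGeom_baseChange f _ _ V.ι (IsPullback.of_hasPullback f V.ι) v
  have h3 := Triage.GeomCount.nGeom_baseChange u₀ _ qX π sqX v
  simp only [Set.mem_preimage, Set.mem_ofPred_eq, ← h2.1, ← h2.2, h3.1, h3.2]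

theorem isLocallyConstructible_forall_fiber [LocallyOfFinitePresentation f] [QuasiCompact f] [QuasiSeparated f] :
    IsLocallyConstructible {y : Y |
      ∀ x : ↥(f.fiber y), FBase.IsGeomPtIntegralAt (f.fiberToSpecResidueField y) x} := by
  have e : {y : Y | ∀ x : ↥(f.fiber y), FBase.IsGeomPtIntegralAt (f.fiberToSpecResidueField y) x} =
      FlatMisc.GeomRedConstr.locus f ∩ {y : Y | MoreMor.nGeomConnComp f y = MoreMor.nGeomIrredComp f y} :=
    Set.ext fun y => forall_fiber_iff f y
  rw [e]
  exact (FlatMisc.GeomRedConstr.isLocallyConstructible_locus f).inter (isLocallyConstructible_counts_eq f)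

end Groth.Agent.PtInt
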