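import Groth.Agent.PtInt.Geom

/-!
# Geometric pointwise integrality is detected by finite extensions
-/

set_option autoImplicit false
set_option linter.style.haveILetI false
set_option linter.unusedSectionVars false
set_option backward.isDefEq.respectTransparency false
set_option backward.isDefEq.respectTransparency.types false

universe u

open AlgebraicGeometry CategoryTheory CategoryTheory.Limits Topology TensorProduct

namespace Groth.Agent.PtInt

variable {k Ω : Type u} [Field k] [Field Ω] [Algebra k Ω] {R : Type u} [CommRing R] [Algebra k R]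

/-- The map `R ⊗ F → R ⊗ Ω` of an intermediate field. -/
noncomputable def tensorVal (F : IntermediateField k Ω) : R ⊗[k] F →ₐ[k] R ⊗[k] Ω :=
  Algebra.TensorProduct.map (AlgHom.id k R) F.val

theorem tensorVal_injective (F : IntermediateField k Ω) : Function.Injective (tensorVal (R := R) F) :=
  Module.Flat.lTensor_preserves_injective_linearMap (M := R) F.val.toLinearMap Subtype.val_injective

theorem exists_finite_mem_range [Algebra.IsAlgebraic k Ω] (a : R ⊗[k] Ω) :
    ∃ F : IntermediateField k Ω, FiniteDimensional k F ∧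
      ∀ F' : IntermediateField k Ω, F ≤ F' → a ∈ (tensorVal (R := R) F').range := by
  induction a using TensorProduct.induction_on with
  | zero => exact ⟨⊥, inferInstance, fun F' _ => zero_mem _⟩
  | tmul r c =>
    refine ⟨IntermediateField.adjoin k {c}, IntermediateField.adjoin.finiteDimensional
      (Algebra.IsIntegral.isIntegral c), fun F' hF' => ?_⟩
    exact ⟨r ⊗ₜ ⟨c, hF' (IntermediateField.mem_adjoin_simple_self k c)⟩, rfl⟩
  | add a b ha hb =>
    obtain ⟨F, hF, hFa⟩ := ha
    obtain ⟨G, hG, hGb⟩ := hb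
    haveI := hF; haveI := hG
    exact ⟨F ⊔ G, inferInstance, fun F' hF' =>
      add_mem (hFa F' (le_sup_left.trans hF')) (hGb F' (le_sup_right.trans hF'))⟩

theorem isDomain_localization_of_subrings {T : Type u} [CommRing T] (W : Ideal T) [W.IsPrime]
    (h : ∀ a c u : T, ∃ (T' : Type u) (_ : CommRing T') (θ : T' →+* T), Function.Injective θ ∧
      a ∈ θ.range ∧ c ∈ θ.range ∧ u ∈ θ.range ∧ IsDomain (Localization.AtPrime (W.comap θ))) :
    IsDomain (Localization.AtPrime W) := by
  haveI : Nontrivial (Localization.AtPrime W) := IsLocalization.AtPrime.nontrivial _ W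
  haveI : NoZeroDivisors (Localization.AtPrime W) := by
    refine ⟨fun {x y} hxy => ?_⟩
    obtain ⟨a, s, rfl⟩ := IsLocalization.exists_mk'_eq W.primeCompl x
    obtain ⟨c, s', rfl⟩ := IsLocalization.exists_mk'_eq W.primeCompl y
    rw [← IsLocalization.mk'_mul, IsLocalization.mk'_eq_zero_iff] at hxy
    obtain ⟨u, hu⟩ := hxy
    obtain ⟨T', _, θ, hθ, ⟨a', rfl⟩, ⟨c', rfl⟩, ⟨u', hu'⟩, hdom⟩ := h a c u.1
    haveI := hdom
    have h0 : u' * (a' * c') = 0 := hθ (by rw [map_mul, map_mul, map_zero, hu', hu])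
    let L := Localization.AtPrime (W.comap θ)
    have hu0 : algebraMap T' L u' ≠ 0 := fun e => by
      obtain ⟨t, ht⟩ := (IsLocalization.map_eq_zero_iff (W.comap θ).primeCompl L u').1 e
      have h1 : θ t.1 * θ u' = 0 := by rw [← map_mul, ht, map_zero]
      rcases (inferInstance : W.IsPrime).mem_or_mem (show θ t.1 * θ u' ∈ W by rw [h1]; exact zero_mem _) with h2 | h2
      · exact t.2 h2
      · exact u.2 (show u.1 ∈ W from hu' ▸ h2)
    have key : ∀ b : T', algebraMap T' L b = 0 → ∀ t : W.primeCompl,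
        IsLocalization.mk' (Localization.AtPrime W) (θ b) t = 0 := fun b hb t => by
      obtain ⟨m, hm⟩ := (IsLocalization.map_eq_zero_iff (W.comap θ).primeCompl L b).1 hb
      exact (IsLocalization.mk'_eq_zero_iff _ _).2 ⟨⟨θ m.1, m.2⟩, by rw [← map_mul, hm, map_zero]⟩
    have h3 : algebraMap T' L u' * (algebraMap T' L a' * algebraMap T' L c') = 0 := by
      rw [← map_mul, ← map_mul, h0, map_zero]
    rcases mul_eq_zero.1 ((mul_eq_zero.1 h3).resolve_left hu0) with h4 | h4
    · exact Or.inl (key _ h4 s)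
    · exact Or.inr (key _ h4 s')
  exact NoZeroDivisors.to_isDomain _

theorem exists_chart {X : Scheme.{u}} (g : X ⟶ Spec (CommRingCat.of k)) {R : CommRingCat.{u}}
    (j : Spec R ⟶ X) [IsOpenImmersion j] (φ : CommRingCat.of k ⟶ R) (hφ : Spec.map φ = j ≫ g)
    (K : Type u) [Field K] [Algebra k K] :
    letI := φ.hom.toAlgebra
    ∃ ι : Spec (CommRingCat.of ((R : Type u) ⊗[k] K)) ⟶ FBase.bc g K, IsOpenImmersion ι ∧
      (∀ q, FBase.bcπ g K (ι q) =
        j ((Spec.map (CommRingCat.ofHom Algebra.TensorProduct.includeLeftRingHom)) q)) ∧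
      ∀ w : ↥(FBase.bc g K), FBase.bcπ g K w ∈ Set.range j → w ∈ Set.range ι := by
  letI := φ.hom.toAlgebra
  let π : FBase.bc g K ⟶ X := FBase.bcπ g K
  let t := Spec.map (CommRingCat.ofHom (algebraMap k K))
  let e₁ : pullback j π ≅ Spec (CommRingCat.of ((R : Type u) ⊗[k] K)) :=
    pullbackRightPullbackFstIso g t j ≪≫ pullback.congrHom hφ.symm rfl ≪≫ pullbackSpecIso k R K
  let ι : Spec (CommRingCat.of ((R : Type u) ⊗[k] K)) ⟶ FBase.bc g K := e₁.inv ≫ pullback.snd j π
  have hι : ι ≫ π = Spec.map (CommRingCat.ofHom Algebra.TensorProduct.includeLeftRingHom) ≫ j := by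
    rw [Category.assoc, ← pullback.condition, ← Category.assoc]
    congr 1
    simp only [e₁, Iso.trans_inv, Category.assoc, pullback.congrHom_inv]
    erw [pullbackRightPullbackFstIso_inv_fst, pullback.lift_fst]
    rw [Category.comp_id]
    exact pullbackSpecIso_inv_fst k R K
  refine ⟨ι, inferInstance, fun q => ?_, fun w ⟨p, hp⟩ => ?_⟩
  · show π (ι q) = _
    rw [← Scheme.Hom.comp_apply, hι, Scheme.Hom.comp_apply]
  · obtain ⟨v, -, hv⟩ := Scheme.Pullback.exists_preimage_pullback (f := j) (g := π) p w hp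
    exact ⟨e₁.hom v, by rw [← Scheme.Hom.comp_apply, Iso.hom_inv_id_assoc, hv]⟩

theorem isGeomPtIntegralAt_of_finite {X : Scheme.{u}} (g : X ⟶ Spec (CommRingCat.of k)) (x : X)
    (h : ∀ F : IntermediateField k (AlgebraicClosure k), FiniteDimensional k F → ∀ z : ↥(FBase.bc g F),
      FBase.bcπ g F z = x → IsDomain ((FBase.bc g F).presheaf.stalk z)) :
    FBase.IsGeomPtIntegralAt g x := by
  obtain ⟨w, rfl⟩ := (FBaseLib.surjective_bcπ g (AlgebraicClosure k)).surj x
  refine (isGeomPtIntegralAt_bcπ_iff (Ω := AlgebraicClosure k) g w).2 ?_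
  obtain ⟨R, j, hj, ⟨p, hp⟩, -⟩ := Scheme.exists_affine_mem_range_and_range_subset (X := X)
    (x := FBase.bcπ g (AlgebraicClosure k) w) (U := ⊤) trivial
  obtain ⟨φ, hφ⟩ := Spec.map_surjective (j ≫ g)
  letI : Algebra k R := φ.hom.toAlgebra
  obtain ⟨ι, hι, hιπ, hιr⟩ := exists_chart g j φ hφ (AlgebraicClosure k)
  obtain ⟨q, rfl⟩ := hιr w ⟨p, hp⟩
  haveI := hι
  rw [FBaseLib.isDomain_stalk_iff_of_isOpenImmersion, FBaseLib.isDomain_stalk_spec_iff]
  refine isDomain_localization_of_subrings _ fun a c e => ?_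
  obtain ⟨Fa, hFa, ha⟩ := exists_finite_mem_range (R := (R : Type u)) a
  obtain ⟨Fc, hFc, hc⟩ := exists_finite_mem_range (R := (R : Type u)) c
  obtain ⟨Fe, hFe, he⟩ := exists_finite_mem_range (R := (R : Type u)) e
  haveI := hFa; haveI := hFc; haveI := hFe
  let F := Fa ⊔ Fc ⊔ Fe
  let θ := (tensorVal (R := (R : Type u)) F).toRingHom
  obtain ⟨a', ha'⟩ := ha F (le_sup_left.trans le_sup_left)
  obtain ⟨c', hc'⟩ := hc F (le_sup_right.trans le_sup_left)
  obtain ⟨e', he'⟩ := he F le_sup_right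
  refine ⟨(R : Type u) ⊗[k] F, ?_⟩
  refine ⟨Algebra.TensorProduct.instCommRing, ?_⟩
  refine ⟨θ, tensorVal_injective F, ⟨a', ha'⟩, ⟨c', hc'⟩, ⟨e', he'⟩, ?_⟩
  obtain ⟨ιF, hιF, hιFπ, -⟩ := exists_chart g j φ hφ F
  haveI := hιF
  let q' := Spec.map (CommRingCat.ofHom (R := (R : Type u) ⊗[k] F) (S := (R : Type u) ⊗[k] AlgebraicClosure k) θ) q
  have hd := h F inferInstance (ιF q') (by
    rw [hιFπ, hιπ]
    congr 1)
  rw [FBaseLib.isDomain_stalk_iff_of_isOpenImmersion, FBaseLib.isDomain_stalk_spec_iff] at hd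
  exact hd

end Groth.Agent.PtInt
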