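import Groth.Agent.PtInt.FieldLim
import Groth.Agent.GeomLoci.IrredDvr
import Groth.Agent.UnivOpen.Criterion

/-!
# Geometric pointwise integrality of the fibres of a flat morphism is stable under generization
-/

set_option autoImplicit false
set_option linter.style.haveILetI false
set_option linter.unusedSectionVars false
set_option backward.isDefEq.respectTransparency false
set_option backward.isDefEq.respectTransparency.types false

universe u

open AlgebraicGeometry CategoryTheory CategoryTheory.Limits Topology IsLocalRing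

namespace Groth.Agent.PtInt

theorem at_field_iff {k : Type u} [Field k] {X : Scheme.{u}} (g : X ⟶ Spec (CommRingCat.of k)) (x : X) :
    At g x ↔ FBase.IsGeomPtIntegralAt g x := by
  obtain ⟨w, rfl⟩ := (FBaseLib.surjective_bcπ g (AlgebraicClosure k)).surj x
  exact (at_iff_geom g (Spec.map (CommRingCat.ofHom (algebraMap k (AlgebraicClosure k)))) w).trans
    (isGeomPtIntegralAt_bcπ_iff (Ω := AlgebraicClosure k) g w).symm

theorem isDomain_stalk_of_isGeomPtIntegralAt {k : Type u} [Field k] {X : Scheme.{u}}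
    (g : X ⟶ Spec (CommRingCat.of k)) (x : X) (h : FBase.IsGeomPtIntegralAt g x) :
    IsDomain (X.presheaf.stalk x) := by
  haveI : IsIso (FBase.bcπ g k) := by
    haveI : IsIso (Spec.map (CommRingCat.ofHom (algebraMap k k))) := by
      rw [Algebra.algebraMap_self, CommRingCat.ofHom_id, Spec.map_id]
      infer_instance
    exact MorphismProperty.pullback_fst (P := MorphismProperty.isomorphisms Scheme) _ _
      (inferInstance : IsIso (Spec.map (CommRingCat.ofHom (algebraMap k k))))
  obtain ⟨x', hx'⟩ := (FBaseLib.surjective_bcπ g k).surj x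
  exact hx' ▸ (FBaseLib.isDomain_stalk_iff_of_isOpenImmersion (FBase.bcπ g k) x').mpr (h k x' hx')

theorem isDomain_stalk_fiberι {V : Type u} [CommRing V] [IsDomain V] [IsDiscreteValuationRing V] {Z : Scheme.{u}}
    (q : Z ⟶ Spec (CommRingCat.of V)) [Flat q] [IsLocallyNoetherian Z] {c : Spec (CommRingCat.of V)}
    (hc : c = closedPoint V) (w : ↥(q.fiber c)) (hd : IsDomain ((q.fiber c).presheaf.stalk w)) :
    IsDomain (Z.presheaf.stalk (q.fiberι c w)) := by
  haveI := hd
  obtain ⟨_, _⟩ := FlatDvr.isDvr_stalk ((FlatDvr.fiberι_apply_eq q w).trans hc)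
  let O := (Spec (CommRingCat.of V)).presheaf.stalk (q (q.fiberι c w))
  let φ : O →+* Z.presheaf.stalk (q.fiberι c w) := (q.stalkMap (q.fiberι c w)).hom
  obtain ⟨π, hπ⟩ := IsDiscreteValuationRing.exists_irreducible O
  have hm := (IsDiscreteValuationRing.irreducible_iff_uniformizer π).1 hπ
  have hker : RingHom.ker ((q.fiberι c).stalkMap w).hom = Ideal.span {φ π} := by
    rw [FlatDvr.ker_stalkMap_fiberι]
    show (maximalIdeal O).map φ = _
    rw [hm, Ideal.map_span, Set.image_singleton]
  refine GeomLoci.isDomain_of_prime_span (t := φ π) (fun a ha => ?_) ?_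
  · letI := φ.toAlgebra
    haveI : Module.Flat O (Z.presheaf.stalk (q.fiberι c w)) := Flat.stalkMap q (q.fiberι c w)
    exact Module.Flat.isSMulRegular_of_nonZeroDivisors (M := Z.presheaf.stalk (q.fiberι c w))
      (mem_nonZeroDivisors_of_ne_zero hπ.ne_zero)
      (show π • a = π • 0 by rw [smul_zero, Algebra.smul_def]; exact ha)
  · rw [← hker]
    exact RingHom.ker_isPrime _

theorem isDomain_stalk_of_at {V : Type u} [CommRing V] [IsDomain V] [IsDiscreteValuationRing V] {Z : Scheme.{u}}
    (q : Z ⟶ Spec (CommRingCat.of V)) [Flat q] [IsLocallyNoetherian Z] {v : Z}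
    (hv : q v = closedPoint V) (h : At q v) : IsDomain (Z.presheaf.stalk v) := by
  have hd : IsDomain ((q.fiber (q v)).presheaf.stalk (q.asFiber v)) :=
    isDomain_stalk_of_isGeomPtIntegralAt (k := ((Spec (CommRingCat.of V)).residueField (q v) : Type u))
      (q.fiberToSpecResidueField (q v)) _ h
  have := isDomain_stalk_fiberι q hv (q.asFiber v) hd
  rwa [q.fiberι_asFiber] at this

/-- The stalks of a flat preimmersion are isomorphisms. -/
theorem isDomain_stalk_of_flat_preimmersion {Z W : Scheme.{u}} (j : Z ⟶ W) [Flat j] [IsPreimmersion j] (z : Z)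
    (h : IsDomain (W.presheaf.stalk (j z))) : IsDomain (Z.presheaf.stalk z) := by
  letI := (j.stalkMap z).hom.toAlgebra
  haveI : Module.FaithfullyFlat (W.presheaf.stalk (j z)) (Z.presheaf.stalk z) :=
    @Module.FaithfullyFlat.of_flat_of_isLocalHom _ _ _ _ _ _ _ (Flat.stalkMap j z) (j.toLRSHom.prop z)
  have hinj : Function.Injective (j.stalkMap z).hom :=
    FaithfulSMul.algebraMap_injective (W.presheaf.stalk (j z)) (Z.presheaf.stalk z)
  exact MulEquiv.isDomain_iff (RingEquiv.ofBijective _ ⟨hinj, j.stalkMap_surjective z⟩).toMulEquiv |>.1 h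

theorem at_generization_dvr {A : Type u} [CommRing A] [IsDomain A] [IsDiscreteValuationRing A] {X : Scheme.{u}}
    (q : X ⟶ Spec (CommRingCat.of A)) [Flat q] [LocallyOfFiniteType q] {x x' : X} (hx : x' ⤳ x)
    (hxc : q x = closedPoint A) (hxg : q x' = GeomLoci.genPt A) (h : At q x) : At q x' := by
  let K := FractionRing A
  let t : Spec (CommRingCat.of K) ⟶ Spec (CommRingCat.of A) := Spec.map (CommRingCat.ofHom (algebraMap A K))
  let g := pullback.snd q t
  obtain ⟨π, hπ⟩ := IsDiscreteValuationRing.exists_irreducible A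
  haveI : IsLocalization.Away π K := by
    refine ⟨?_, ?_, ?_⟩
    · rintro ⟨_, n, rfl⟩
      exact isUnit_iff_ne_zero.2 (by simp [hπ.ne_zero])
    · intro w
      obtain ⟨a, b, hb, rfl⟩ := IsFractionRing.div_surjective A w
      obtain ⟨n, v, rfl⟩ := IsDiscreteValuationRing.eq_unit_mul_pow_irreducible (nonZeroDivisors.ne_zero hb) hπ
      refine ⟨(a * ↑v⁻¹, ⟨π ^ n, n, rfl⟩), ?_⟩
      have hv : algebraMap A K v ≠ 0 := by simp
      have hπn : algebraMap A K (π ^ n) ≠ 0 := by simp [hπ.ne_zero]
      have hvv : algebraMap A K v * algebraMap A K ↑v⁻¹ = 1 := by rw [← map_mul, Units.mul_inv, map_one]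
      simp only [map_mul]
      rw [div_mul_eq_mul_div, div_eq_iff (mul_ne_zero hv hπn)]
      linear_combination (-(algebraMap A K a) * algebraMap A K (π ^ n)) * hvv
    · intro a b e
      exact ⟨1, by rw [IsFractionRing.injective A K e]⟩
  haveI : Algebra.FiniteType A K := IsLocalization.finiteType_of_monoid_fg (Submonoid.powers π) K
  haveI : LocallyOfFiniteType t :=
    (HasRingHomProperty.Spec_iff (P := @LocallyOfFiniteType)).2 (RingHom.finiteType_algebraMap.2 ‹_›)
  have htc : t (closedPoint K) = GeomLoci.genPt A := PrimeSpectrum.ext (by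
    show Ideal.comap (algebraMap A K) (maximalIdeal K) = ⊥
    rw [IsLocalRing.maximalIdeal_eq_bot, ← RingHom.ker_eq_comap_bot,
      (RingHom.injective_iff_ker_eq_bot _).1 (IsFractionRing.injective A K)])
  obtain ⟨x₁, hx₁, -⟩ := Scheme.Pullback.exists_preimage_pullback (f := q) (g := t) x' (closedPoint K)
    (hxg.trans htc.symm)
  rw [← hx₁, ← at_baseChange q (IsPullback.of_hasPullback q t) x₁]
  refine (at_field_iff g x₁).2 (isGeomPtIntegralAt_of_finite g x₁ fun F hF z hz => ?_)
  haveI := hF
  let iF : Spec (CommRingCat.of F) ⟶ Spec (CommRingCat.of K) := Spec.map (CommRingCat.ofHom (algebraMap K F))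
  haveI : LocallyOfFiniteType iF :=
    (HasRingHomProperty.Spec_iff (P := @LocallyOfFiniteType)).2 (RingHom.finiteType_algebraMap.2 inferInstance)
  let p : FBase.bc g F ⟶ X := FBase.bcπ g F ≫ pullback.fst q t
  haveI : LocallyOfFiniteType (FBase.bcπ g F) := MorphismProperty.pullback_fst _ _ ‹LocallyOfFiniteType iF›
  haveI : LocallyOfFiniteType p := inferInstance
  haveI : IsLocallyNoetherian X := LocallyOfFiniteType.isLocallyNoetherian q
  have hpz : p z = x' := by rw [Scheme.Hom.comp_apply, hz, hx₁]
  obtain ⟨V, h', hV, hclosed, hgen⟩ := Proj16.exists_dvr_path (p := p) (x := z) (y' := x) (hpz.symm ▸ hx)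
    (fun e => GeomLoci.genPt_ne (by rw [← hxg, ← hpz, ← e, hxc]))
  haveI := hV
  let s := h' ≫ q
  let qV := pullback.snd q s
  let σ : Spec (CommRingCat.of V) ⟶ pullback q s := pullback.lift h' (𝟙 _) (by simp [s])
  haveI : IsLocallyNoetherian (pullback q s) := LocallyOfFiniteType.isLocallyNoetherian qV
  have hσ1 : pullback.fst q s (σ (closedPoint V)) = x := by
    rw [← Scheme.Hom.comp_apply, pullback.lift_fst, hclosed]
  have hσ2 : qV (σ (closedPoint V)) = closedPoint V := by
    rw [← Scheme.Hom.comp_apply, pullback.lift_snd]; rfl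
  have hdom : IsDomain ((pullback q s).presheaf.stalk (σ (closedPoint V))) :=
    isDomain_stalk_of_at qV hσ2 ((at_baseChange q (IsPullback.of_hasPullback q s) _).2 (hσ1.symm ▸ h))
  have hdom' : IsDomain ((pullback q s).presheaf.stalk (σ (GeomLoci.genPt V))) :=
    (GeomLoci.genPt_specializes.map σ.continuous).mem_open (isOpen_setOf_isDomain_stalk _) hdom
  let L := (FBase.bc g F).residueField z
  let ι : Spec (CommRingCat.of L) ⟶ Spec (CommRingCat.of V) := Spec.map (CommRingCat.ofHom V.subtype)
  haveI : IsFractionRing V L := inferInstance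
  haveI : IsPreimmersion ι := IsPreimmersion.of_isLocalization (nonZeroDivisors V)
  haveI : Flat ι := (HasRingHomProperty.Spec_iff (P := @Flat)).2
    (RingHom.flat_algebraMap_iff.2 (IsLocalization.flat L (nonZeroDivisors V)))
  let ψ : Spec (CommRingCat.of L) ⟶ Spec (CommRingCat.of F) := (FBase.bc g F).fromSpecResidueField z ≫ FBase.bcStr g F
  haveI : Flat ψ := by
    obtain ⟨a, ha⟩ := Spec.map_surjective ψ
    rw [← ha]
    exact GrpSchLib.flat_spec_map_field a.hom
  have hι : ι ≫ s = ψ ≫ iF ≫ t := by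
    rw [← Category.assoc ι h' q, hgen]
    simp only [p, ψ, Category.assoc]
    congr 1
    rw [pullback.condition (f := q) (g := t)]
    exact congrArg (· ≫ t) (pullback.condition (f := g) (g := iF))
  let Z := pullback (FBase.bcStr g F) ψ
  let θ : Z ⟶ FBase.bc g F := pullback.fst (FBase.bcStr g F) ψ
  haveI : Flat θ := MorphismProperty.pullback_fst _ _ ‹Flat ψ›
  have sq : IsPullback (θ ≫ p) (pullback.snd (FBase.bcStr g F) ψ) q (ι ≫ s) := by
    rw [hι]
    exact (IsPullback.of_hasPullback (FBase.bcStr g F) ψ).paste_horiz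
      ((IsPullback.of_hasPullback g iF).paste_horiz (IsPullback.of_hasPullback q t))
  let jj : Z ⟶ pullback q s := pullback.lift (θ ≫ p) (pullback.snd (FBase.bcStr g F) ψ ≫ ι) (by
    rw [sq.w, Category.assoc])
  have sqj : IsPullback jj (pullback.snd (FBase.bcStr g F) ψ) qV ι := by
    refine IsPullback.of_right ?_ (pullback.lift_snd _ _ _) (IsPullback.of_hasPullback q s)
    rw [pullback.lift_fst]
    exact sq
  haveI : Flat jj := MorphismProperty.of_isPullback sqj.flip ‹Flat ι›
  haveI : IsPreimmersion jj := MorphismProperty.of_isPullback sqj.flip ‹IsPreimmersion ι›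
  let ζ : Spec (CommRingCat.of L) ⟶ Z := pullback.lift ((FBase.bc g F).fromSpecResidueField z) (𝟙 _) (by simp [ψ])
  have hθζ : θ (ζ (closedPoint L)) = z := by
    rw [← Scheme.Hom.comp_apply, pullback.lift_fst]
    exact Scheme.fromSpecResidueField_apply _ _
  have hjζ : jj (ζ (closedPoint L)) = σ (GeomLoci.genPt V) := by
    have e : ζ ≫ jj = ι ≫ σ := by
      apply pullback.hom_ext
      · simp only [Category.assoc, jj, σ, θ, ζ, pullback.lift_fst, pullback.lift_fst_assoc]
        exact hgen.symm
      · simp [jj, σ, ζ]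
        exact Category.id_comp ι
    rw [← Scheme.Hom.comp_apply, e, Scheme.Hom.comp_apply]
    congr 1
    refine PrimeSpectrum.ext ?_
    show Ideal.comap V.subtype (maximalIdeal L) = ⊥
    rw [IsLocalRing.maximalIdeal_eq_bot, ← RingHom.ker_eq_comap_bot,
      (RingHom.injective_iff_ker_eq_bot _).1 Subtype.val_injective]
  exact hθζ ▸ FBaseLib.stalk_isDomain_of_flat θ _
    (isDomain_stalk_of_flat_preimmersion jj _ (hjζ.symm ▸ hdom'))

theorem at_generization {X Y : Scheme.{u}} (f : X ⟶ Y) [Flat f] [LocallyOfFiniteType f] [IsLocallyNoetherian Y]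
    {x x' : X} (hx : x' ⤳ x) (h : At f x) : At f x' := by
  by_cases hne : x = x'
  · exact hne ▸ h
  haveI : IsLocallyNoetherian X := LocallyOfFiniteType.isLocallyNoetherian f
  obtain ⟨A, _, _, _, σ, hσc, hσg⟩ := UnivOpen.exists_dvr_lift hx hne
  let τ := σ ≫ f
  let σ₁ : Spec (CommRingCat.of A) ⟶ pullback f τ := pullback.lift σ (𝟙 _) (by simp [τ])
  have hfst : ∀ c, pullback.fst f τ (σ₁ c) = σ c := fun c => by rw [← Scheme.Hom.comp_apply, pullback.lift_fst]
  have hsnd : ∀ c, pullback.snd f τ (σ₁ c) = c := fun c => by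
    rw [← Scheme.Hom.comp_apply, pullback.lift_snd]; rfl
  have key := at_baseChange f (IsPullback.of_hasPullback f τ)
  have h1 := at_generization_dvr (pullback.snd f τ) (GeomLoci.genPt_specializes.map σ₁.continuous) (hsnd _) (hsnd _)
    ((key _).2 (by rw [hfst, hσc]; exact h))
  have h2 := (key _).1 h1
  rwa [hfst, hσg _ GeomLoci.genPt_ne] at h2

end Groth.Agent.PtInt
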