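import Groth.Agent.PtInt.Fiber

/-!
# Geometric pointwise integrality of fibres and change of base
-/

set_option autoImplicit false
set_option linter.style.haveILetI false
set_option linter.unusedSectionVars false
set_option backward.isDefEq.respectTransparency false
set_option backward.isDefEq.respectTransparency.types false

universe u

open AlgebraicGeometry CategoryTheory CategoryTheory.Limits Topology TopologicalSpace

namespace Groth.Agent.PtInt

/-- The fibre of `f` through `x` is geometrically pointwise integral at `x`. -/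
def At {X Y : Scheme.{u}} (f : X ⟶ Y) (x : X) : Prop :=
  FBase.IsGeomPtIntegralAt (f.fiberToSpecResidueField (f.base x)) (f.asFiber x)

variable {X Y : Scheme.{u}} (f : X ⟶ Y)

theorem forall_fiber_iff_forall_at (y : Y) :
    (∀ p : ↥(f.fiber y), FBase.IsGeomPtIntegralAt (f.fiberToSpecResidueField y) p) ↔
      ∀ x : X, f x = y → At f x := by
  constructor
  · rintro h x rfl
    exact h _
  · intro h p
    have hy : f (f.fiberι y p) = y := by
      have : f.fiberι y p ∈ Set.range (f.fiberι y) := Set.mem_range_self _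
      rwa [Scheme.Hom.range_fiberι] at this
    have : ∀ (y' : Y) (e : f (f.fiberι y p) = y'), ∀ q : ↥(f.fiber y'), f.fiberι y' q = f.fiberι y p →
        FBase.IsGeomPtIntegralAt (f.fiberToSpecResidueField y') q := by
      rintro _ rfl q hq
      have : q = f.asFiber (f.fiberι y p) := (f.fiberι _).isEmbedding.injective (hq.trans (f.fiberι_asFiber _).symm)
      rw [this]
      exact h _ hy
    exact this y hy p rfl

theorem at_iff_geom {Ω : Type u} [Field Ω] [IsAlgClosed Ω] (s : Spec (CommRingCat.of Ω) ⟶ Y)
    (w : ↥(pullback f s)) : At f (pullback.fst f s w) ↔ IsDomain ((pullback f s).presheaf.stalk w) := by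
  obtain ⟨⟨y, φ⟩, rfl⟩ := (Scheme.SpecToEquivOfField Ω Y).symm.surjective s
  let i : Spec (CommRingCat.of Ω) ⟶ Spec (Y.residueField y) := Spec.map φ
  let s₀ := i ≫ Y.fromSpecResidueField y
  show At f (pullback.fst f s₀ w) ↔ IsDomain ((pullback f s₀).presheaf.stalk w)
  letI : Algebra (Y.residueField y : Type u) Ω := φ.hom.toAlgebra
  let e : FBase.bc (k := (Y.residueField y : Type u)) (f.fiberToSpecResidueField y) Ω ≅ pullback f s₀ :=
    pullbackLeftPullbackSndIso f (Y.fromSpecResidueField y) i
  let u := e.inv w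
  let p := FBase.bcπ (k := (Y.residueField y : Type u)) (f.fiberToSpecResidueField y) Ω u
  have hp : f.fiberι y p = pullback.fst f s₀ w := by
    have h : e.inv ≫ FBase.bcπ (k := (Y.residueField y : Type u)) (f.fiberToSpecResidueField y) Ω ≫ f.fiberι y =
        pullback.fst f s₀ := pullbackLeftPullbackSndIso_inv_fst f (Y.fromSpecResidueField y) i
    rw [← h]
    rfl
  have h1 := isGeomPtIntegralAt_bcπ_iff (k := (Y.residueField y : Type u)) (Ω := Ω) (f.fiberToSpecResidueField y) u
  have h2 := FBaseLib.isDomain_stalk_iff_of_isOpenImmersion e.inv w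
  have hy : f (pullback.fst f s₀ w) = y := by
    rw [← Scheme.Hom.comp_apply, pullback.condition, Scheme.Hom.comp_apply, Scheme.Hom.comp_apply]
    exact Scheme.fromSpecResidueField_apply _ _
  have key : ∀ (x : X) (y' : Y) (e' : f x = y'), ∀ q : ↥(f.fiber y'), f.fiberι y' q = x →
      (At f x ↔ FBase.IsGeomPtIntegralAt (f.fiberToSpecResidueField y') q) := by
    rintro x _ rfl q hq
    rw [(f.fiberι _).isEmbedding.injective (hq.trans (f.fiberι_asFiber x).symm)]
    rfl
  exact (key _ y hy p hp).trans (h1.trans h2)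

theorem exists_geom (x : X) : ∃ (Ω : Type u) (_ : Field Ω) (_ : IsAlgClosed Ω)
    (s : Spec (CommRingCat.of Ω) ⟶ Y) (w : ↥(pullback f s)), pullback.fst f s w = x := by
  let Ω := AlgebraicClosure (Y.residueField (f x))
  let s : Spec (CommRingCat.of Ω) ⟶ Y :=
    Spec.map (CommRingCat.ofHom (algebraMap (Y.residueField (f x)) Ω)) ≫ Y.fromSpecResidueField (f x)
  obtain ⟨w, hw, -⟩ := Scheme.Pullback.exists_preimage_pullback (f := f) (g := s) x (IsLocalRing.closedPoint Ω)
    (by rw [Scheme.Hom.comp_apply]; exact (Scheme.fromSpecResidueField_apply _ _).symm)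
  exact ⟨Ω, inferInstance, inferInstance, s, w, hw⟩

theorem at_baseChange {X' Y' : Scheme.{u}} {f' : X' ⟶ Y'} {g : Y' ⟶ Y} {g' : X' ⟶ X}
    (hc : IsPullback g' f' f g) (x' : X') : At f' x' ↔ At f (g' x') := by
  obtain ⟨Ω, _, _, s, w, rfl⟩ := exists_geom f' x'
  have sq : IsPullback (pullback.fst f' s ≫ g') (pullback.snd f' s) f (s ≫ g) :=
    (IsPullback.of_hasPullback f' s).paste_horiz hc
  let e := sq.isoPullback
  have h : pullback.fst f (s ≫ g) (e.hom w) = g' (pullback.fst f' s w) := by
    rw [← Scheme.Hom.comp_apply, IsPullback.isoPullback_hom_fst, Scheme.Hom.comp_apply]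
  rw [at_iff_geom f' s w, ← h, at_iff_geom f (s ≫ g) (e.hom w)]
  exact (FBaseLib.isDomain_stalk_iff_of_isOpenImmersion e.hom w).symm

end Groth.Agent.PtInt
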