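import Groth.Agent.PtInt.Gen
import Groth.Agent.FibDim.Comp
import Groth.Agent.S0414
import Groth.Agent.GeomRedFlat5.Nhd
import Groth.Agent.GeomLoci.ConnFlat

/-!
# The locus of geometric pointwise integrality in the fibres
-/

set_option autoImplicit false
set_option linter.style.haveILetI false
set_option linter.unusedSectionVars false
set_option backward.isDefEq.respectTransparency false
set_option backward.isDefEq.respectTransparency.types false

universe u

open AlgebraicGeometry CategoryTheory CategoryTheory.Limits Topology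

namespace Groth.Agent.PtInt

/-- The points at which the fibre is geometrically pointwise integral. -/
def locus {X Y : Scheme.{u}} (f : X ⟶ Y) : Set X := {x | At f x}

theorem at_openImmersion {U X Y : Scheme.{u}} (f : X ⟶ Y) (j : U ⟶ X) [IsOpenImmersion j] (x : U) :
    At (j ≫ f) x ↔ At f (j x) := by
  obtain ⟨Ω, _, _, s, w, rfl⟩ := exists_geom (j ≫ f) x
  let J : pullback (j ≫ f) s ⟶ pullback f s := pullback.map _ _ _ _ j (𝟙 _) (𝟙 _) (by simp) (by simp)
  have sq : IsPullback J (pullback.fst (j ≫ f) s) (pullback.fst f s) j := by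
    refine (IsPullback.of_right ?_ (pullback.lift_fst _ _ _).symm.symm (IsPullback.of_hasPullback f s).flip).flip.flip
    simpa [J] using (IsPullback.of_hasPullback (j ≫ f) s).flip
  haveI : IsOpenImmersion J := MorphismProperty.of_isPullback sq.flip ‹IsOpenImmersion j›
  have h : pullback.fst f s (J w) = j (pullback.fst (j ≫ f) s w) := by
    rw [← Scheme.Hom.comp_apply, ← Scheme.Hom.comp_apply, sq.w]
  rw [at_iff_geom (j ≫ f) s w, ← h, at_iff_geom f s (J w)]
  exact (FBaseLib.isDomain_stalk_iff_of_isOpenImmersion J w).symm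

theorem forall_at_iff_aux {X Y : Scheme.{u}} (f : X ⟶ Y) (x : X) (y : Y) (hy : f x = y) (p : ↥(f.fiber y))
    (hp : f.fiberι y p = x) : At f x ↔ FBase.IsGeomPtIntegralAt (f.fiberToSpecResidueField y) p := by
  subst hy
  rw [(f.fiberι _).isEmbedding.injective (hp.trans (f.fiberι_asFiber x).symm)]
  rfl

theorem exists_open_mem {X' S : Scheme.{u}} (g : X' ⟶ S) [LocallyOfFiniteType g] [IsNoetherian S] {ξ : X'}
    (hη : ∀ s : S, s ⤳ g ξ → s = g ξ) (hξ : At g ξ) :
    ∃ O : Set X', IsOpen O ∧ ξ ∈ O ∧ ∀ x ∈ O, At g x := by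
  let η := g ξ
  have hO : IsOpen {p : ↥(g.fiber η) | FBase.IsGeomPtIntegralAt
      (k := (S.residueField η : Type u)) (g.fiberToSpecResidueField η) p} :=
    isOpen_setOf_isGeomPtIntegralAt _
  obtain ⟨W₀, hW₀, hW₀e⟩ := (g.fiberι η).isEmbedding.isInducing.isOpen_iff.1 hO
  have hfib : ∀ p : ↥(g.fiber η), g.fiberι η p ∈ W₀ →
      FBase.IsGeomPtIntegralAt (k := (S.residueField η : Type u)) (g.fiberToSpecResidueField η) p := fun p hp => by
    have : p ∈ g.fiberι η ⁻¹' W₀ := hp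
    rwa [hW₀e] at this
  have hξ₀ : ξ ∈ W₀ := by
    have h : g.asFiber ξ ∈ {p : ↥(g.fiber η) | FBase.IsGeomPtIntegralAt
      (k := (S.residueField η : Type u)) (g.fiberToSpecResidueField η) p} := hξ
    rw [← hW₀e, Set.mem_preimage, g.fiberι_asFiber] at h
    exact h
  obtain ⟨W, hW, hξW, hWW₀⟩ := exists_isAffineOpen_mem_and_subset (x := ξ) (U := ⟨W₀, hW₀⟩) hξ₀
  haveI : IsAffine (W : Scheme.{u}) := hW
  let gW := W.ι ≫ g
  haveI : QuasiCompact gW := quasiCompact_of_compactSpace gW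
  haveI : QuasiSeparated gW := inferInstance
  haveI : LocallyOfFinitePresentation gW := GeomRedFlat5.lfp_of_noetherian gW
  have hG : {s : S | ∀ p : ↥(gW.fiber s), FBase.IsGeomPtIntegralAt (gW.fiberToSpecResidueField s) p} ∈ nhds η := by
    refine FibDim.mem_nhds_of_generizations (isLocallyConstructible_forall_fiber gW) fun s hs => ?_
    rw [hη s hs]
    refine (forall_fiber_iff_forall_at gW η).2 fun x hx => (at_openImmersion g W.ι x).2 ?_
    have hx' : g (W.ι x) = η := by rw [← Scheme.Hom.comp_apply]; exact hx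
    obtain ⟨p, hp⟩ : W.ι x ∈ Set.range (g.fiberι η) := by rw [Scheme.Hom.range_fiberι]; exact hx'
    refine (forall_at_iff_aux g (W.ι x) η hx' p hp).2 (hfib p ?_)
    rw [hp]; exact hWW₀ x.2
  obtain ⟨N, hN, hNo, hηN⟩ := mem_nhds_iff.1 hG
  refine ⟨(W : Set X') ∩ g ⁻¹' N, W.isOpen.inter (hNo.preimage g.continuous), ⟨hξW, hηN⟩, fun x ⟨hxW, hxN⟩ => ?_⟩
  exact (at_openImmersion g W.ι ⟨x, hxW⟩).1
    ((forall_fiber_iff_forall_at gW (g x)).1 (hN hxN) ⟨x, hxW⟩ rfl)

theorem at_generization_of_flat_restrict {X' S' : Scheme.{u}} (g : X' ⟶ S') [LocallyOfFiniteType g]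
    [IsLocallyNoetherian S'] (U : S'.Opens) (hU : Flat (g ∣_ U)) {x' x : X'} (hx' : g x' ∈ U) (hx : g x ∈ U)
    (h : x' ⤳ x) (hA : At g x) : At g x' := by
  let W : X'.Opens := g ⁻¹ᵁ U
  let a : (W : Scheme.{u}) := ⟨x', hx'⟩
  let b : (W : Scheme.{u}) := ⟨x, hx⟩
  haveI := hU
  haveI : Flat (W.ι ≫ g) := by rw [← morphismRestrict_ι g U]; infer_instance
  have h1 : a ⤳ b := (subtype_specializes_iff a b).2 h
  have h2 : At (W.ι ≫ g) b := (at_openImmersion g W.ι b).2 hA
  have h3 : At (W.ι ≫ g) a := at_generization (W.ι ≫ g) h1 h2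
  exact (at_openImmersion g W.ι a).1 h3

theorem isConstructible_locus {S X : Scheme.{u}} [IsNoetherian S] [IsNoetherian X] (f : X ⟶ S) [LocallyOfFiniteType f] :
    IsConstructible (locus f) := by
  refine ConsPropLib.isConstructible_of_dichotomy _ fun T j _ _ _ => ?_
  let ξ := genericPoint ↥T
  obtain ⟨S', i, _, _, hr, -⟩ := ConsPropLib.exists_integral_closure (f (j ξ))
  haveI : IsLocallyNoetherian S' := LocallyOfFiniteType.isLocallyNoetherian i
  haveI : CompactSpace S' := QuasiCompact.compactSpace_of_compactSpace i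
  haveI : IsNoetherian S' := {}
  let f' := pullback.snd f i
  let q := pullback.fst f i
  haveI : CompactSpace ↥(pullback f i) := QuasiCompact.compactSpace_of_compactSpace q
  haveI : QuasiCompact f' := quasiCompact_of_compactSpace f'
  obtain ⟨U, hUd, hUf, -⟩ := S0414.result f'
  have hlift : ∀ t, ∃ x', q x' = j t := fun t => by
    have : f (j t) ∈ Set.range i := by
      rw [hr]
      exact specializes_iff_mem_closure.1 (((genericPoint_specializes t).map j.continuous).map f.continuous)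
    obtain ⟨s', hs'⟩ := this
    obtain ⟨x', h, -⟩ := Scheme.Pullback.exists_preimage_pullback (f := f) (g := i) (j t) s' hs'.symm
    exact ⟨x', h⟩
  obtain ⟨ξ', hξ'⟩ := hlift ξ
  have hgen : ∀ s : S', f' ξ' ⤳ s := fun s => by
    refine i.isEmbedding.isInducing.specializes_iff.1 ?_
    rw [← Scheme.Hom.comp_apply, ← pullback.condition, Scheme.Hom.comp_apply, hξ']
    exact specializes_iff_mem_closure.2 (hr ▸ Set.mem_range_self s)
  have hξU : f' ξ' ∈ U := by
    obtain ⟨s, hs⟩ := hUd.nonempty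
    exact (hgen s).mem_open U.isOpen hs
  suffices hO : ∃ O' : Set ↥(pullback f i), IsOpen O' ∧ ξ' ∈ O' ∧ ∀ x ∈ O', ξ' ⤳ x → (At f' x ↔ At f' ξ') by
    obtain ⟨O', hO', hξO, hiff⟩ := hO
    obtain ⟨O, hOo, rfl⟩ := q.isEmbedding.isInducing.isOpen_iff.1 hO'
    have hkey : ∀ t ∈ j ⁻¹' O, (j t ∈ locus f ↔ At f' ξ') := fun t ht => by
      obtain ⟨x, hx⟩ := hlift t
      have hsp : ξ' ⤳ x := q.isEmbedding.isInducing.specializes_iff.1 (by
        rw [hξ', hx]; exact (genericPoint_specializes t).map j.continuous)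
      rw [← hiff x (show q x ∈ O by rw [hx]; exact ht) hsp, at_baseChange f (IsPullback.of_hasPullback f i) x, hx]
      rfl
    have hξO' : ξ ∈ j ⁻¹' O := show j ξ ∈ O by rw [← hξ']; exact hξO
    by_cases h : At f' ξ'
    · exact Or.inl ⟨ξ, mem_interior.2 ⟨_, fun t ht => (hkey t ht).2 h, hOo.preimage j.continuous, hξO'⟩⟩
    · exact Or.inr ⟨ξ, mem_interior.2 ⟨_, fun t ht ht' => h ((hkey t ht).1 ht'), hOo.preimage j.continuous, hξO'⟩⟩
  by_cases h : At f' ξ'
  · obtain ⟨O, hO, hξO, hOA⟩ := exists_open_mem f' (ξ := ξ') (fun s hs => (hs.antisymm (hgen s)).eq) h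
    exact ⟨O, hO, hξO, fun x hx _ => ⟨fun _ => h, fun _ => hOA x hx⟩⟩
  · refine ⟨f' ⁻¹' U, U.isOpen.preimage f'.continuous, hξU, fun x hx hsp => ⟨fun hA => ?_, fun hA => absurd hA h⟩⟩
    exact at_generization_of_flat_restrict f' U hUf hξU hx hsp hA

theorem isConstructible_locus_affine {X S : Scheme.{u}} [IsAffine X] [IsAffine S] (f : X ⟶ S)
    [LocallyOfFinitePresentation f] : IsConstructible (locus f) := by
  obtain ⟨S₀, X₀, _, π, u₀, _, qX, _, hS₀, hA, hl, hqc, -, -, sq, -⟩ := ConsPropLib.exists_model_pair f f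
  haveI := hS₀; haveI := hA; haveI := hl; haveI := hqc
  haveI : IsLocallyNoetherian X₀ := LocallyOfFiniteType.isLocallyNoetherian u₀
  haveI : CompactSpace X₀ := QuasiCompact.compactSpace_of_compactSpace u₀
  haveI : IsNoetherian X₀ := {}
  haveI : QuasiCompact qX := quasiCompact_of_compactSpace qX
  have e : locus f = qX ⁻¹' locus u₀ := Set.ext fun x => at_baseChange u₀ sq x
  rw [e]
  exact MorLib.LimCons.isConstructible_preimage qX (isConstructible_locus u₀)

theorem isLocallyConstructible_locus {X S : Scheme.{u}} (f : X ⟶ S) [LocallyOfFinitePresentation f] :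
    IsLocallyConstructible (locus f) := fun x => by
  obtain ⟨V, hV, hxV, -⟩ := exists_isAffineOpen_mem_and_subset (x := f x) (U := ⊤) trivial
  obtain ⟨U, hU, hxU, hUV⟩ := exists_isAffineOpen_mem_and_subset (x := x) (U := f ⁻¹ᵁ V) hxV
  haveI : IsAffine (V : Scheme.{u}) := hV
  haveI : IsAffine (U : Scheme.{u}) := hU
  refine ⟨U, U.2.mem_nhds hxU, U.2, ?_⟩
  let fr := f.resLE V U hUV
  have e : U.ι ⁻¹' locus f = locus fr := Set.ext fun u => by
    have sq : IsPullback (𝟙 (U : Scheme.{u})) fr (U.ι ≫ f) V.ι :=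
      IsPullback.of_horiz_isIso_mono ⟨by simp [fr]⟩
    exact (at_openImmersion f U.ι u).symm.trans (at_baseChange (U.ι ≫ f) sq u).symm
  show IsConstructible (U.ι ⁻¹' locus f)
  rw [e]
  exact isConstructible_locus_affine fr

open MorLib MorLib.Desc ConsPropLib in
theorem exists_flat_model {X S : Scheme.{u}} [IsAffine S] (f : X ⟶ S) [Flat f] [QuasiCompact f] [QuasiSeparated f]
    [LocallyOfFinitePresentation f] :
    ∃ (S₀ X₀ : Scheme.{u}) (f₀ : X₀ ⟶ S₀) (q : X ⟶ X₀) (π : S ⟶ S₀), IsNoetherian S₀ ∧ LocallyOfFiniteType f₀ ∧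
      Flat f₀ ∧ IsPullback q f f₀ π := by
  obtain ⟨I, _, _, D, c, hc, e, hA, hN⟩ := exists_noetherian_limit S
  haveI := hA
  haveI : ∀ (i j : I) (φ : i ⟶ j), IsAffineHom (D.map φ) := fun i j φ => isAffineHom_of_isAffine _
  haveI : ∀ {i j : I} (φ : i ⟶ j), IsAffineHom (D.map φ) := fun φ => isAffineHom_of_isAffine _
  obtain ⟨i, X₁, u₁, g₁, hX⟩ := hasModel hc (f ≫ e.inv)
  haveI := hX.lfp; haveI := hX.qc; haveI := hX.qs
  haveI : CompactSpace ↥X₁ := QuasiCompact.compactSpace_of_compactSpace u₁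
  haveI : QuasiSeparatedSpace ↥X₁ := quasiSeparatedSpace_of_quasiSeparated u₁
  have hY : IsPullback (c.π.app i) (𝟙 c.pt) (𝟙 (D.obj i)) (c.π.app i) := IsPullback.id_vert (c.π.app i)
  obtain ⟨k, ψ, Xk, Yk, fk, gk, pY, pX, hk, hkX, hflat⟩ :=
    Groth.Agent.S2075.result D c hc i u₁ (𝟙 (D.obj i)) (f ≫ e.inv) (𝟙 c.pt) (c.π.app i) _ hY hX.sq
  haveI := hflat
  haveI : IsIso gk := hk.isIso_snd_of_isIso
  have small : IsPullback pX (fk ≫ gk) u₁ (D.map ψ) := by
    have := hkX.paste_vert hk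
    rwa [Category.comp_id] at this
  let q : X ⟶ Xk := small.lift g₁ ((f ≫ e.inv) ≫ c.π.app k)
    (by rw [hX.sq.w, Category.assoc (f ≫ e.inv), c.w ψ])
  have hq : IsPullback q (f ≫ e.inv) (fk ≫ gk) (c.π.app k) := by
    refine IsPullback.of_right ?_ (small.lift_snd _ _ _) small
    rw [small.lift_fst, c.w ψ]
    exact hX.sq
  haveI : LocallyOfFiniteType (fk ≫ gk) := MorphismProperty.of_isPullback small inferInstance
  refine ⟨D.obj k, Xk, fk ≫ gk, q, e.inv ≫ c.π.app k, hN k, inferInstance, inferInstance, ?_⟩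
  exact hq.of_iso (Iso.refl _) (Iso.refl _) e (Iso.refl _) (by simp) (by simp) (by simp) (by simp)

theorem isOpen_locus {X Y : Scheme.{u}} (f : X ⟶ Y) [Flat f] [LocallyOfFinitePresentation f] :
    IsOpen (locus f) := by
  refine isOpen_iff_mem_nhds.2 fun x hx =>
    FibDim.mem_nhds_of_generizations (isLocallyConstructible_locus f) fun x' hx' => ?_
  obtain ⟨V, hV, hxV, -⟩ := exists_isAffineOpen_mem_and_subset (x := f x) (U := ⊤) trivial
  obtain ⟨U, hU, hxU, hUV⟩ := exists_isAffineOpen_mem_and_subset (x := x) (U := f ⁻¹ᵁ V) hxV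
  haveI : IsAffine (V : Scheme.{u}) := hV
  haveI : IsAffine (U : Scheme.{u}) := hU
  let fr := f.resLE V U hUV
  obtain ⟨S₀, X₀, f₀, q, π, _, _, _, hq⟩ := exists_flat_model fr
  have key : ∀ u, At f (U.ι u) ↔ At f₀ (q u) := fun u => by
    have sq : IsPullback (𝟙 (U : Scheme.{u})) fr (U.ι ≫ f) V.ι :=
      IsPullback.of_horiz_isIso_mono ⟨by simp [fr]⟩
    exact (at_openImmersion f U.ι u).symm.trans
      ((at_baseChange (U.ι ≫ f) sq u).symm.trans (at_baseChange f₀ hq u))
  let a : (U : Scheme.{u}) := ⟨x', hx'.mem_open U.isOpen hxU⟩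
  let b : (U : Scheme.{u}) := ⟨x, hxU⟩
  have hab : a ⤳ b := (subtype_specializes_iff a b).2 hx'
  exact (key a).2 (at_generization f₀ (hab.map q.continuous) ((key b).1 hx))

theorem isOpen_forall_fiber {X Y : Scheme.{u}} (f : X ⟶ Y) [IsProper f] [Flat f] [LocallyOfFinitePresentation f] :
    IsOpen {y : Y | ∀ x : ↥(f.fiber y), FBase.IsGeomPtIntegralAt (f.fiberToSpecResidueField y) x} := by
  have e : {y : Y | ∀ x : ↥(f.fiber y), FBase.IsGeomPtIntegralAt (f.fiberToSpecResidueField y) x} =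
      (f '' (locus f)ᶜ)ᶜ := by
    ext y
    refine (forall_fiber_iff_forall_at f y).trans ⟨fun h => ?_, fun h x hx => ?_⟩
    · rintro ⟨x, hx, rfl⟩
      exact hx (h x rfl)
    · by_contra hA
      exact h ⟨x, hA, hx⟩
  rw [e]
  exact (f.isClosedMap _ (isOpen_locus f).isClosed_compl).isOpen_compl

end Groth.Agent.PtInt
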